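import Mathlib.Data.Nat.Choose.Multinomial
import Mathlib.Data.Nat.Digits.Lemmas
import Mathlib.NumberTheory.Padics.PadicVal.Basic
import Mathlib.Algebra.Ring.GeomSum

/-!
# Digit sums and the valuation of multinomial coefficients, as used in Ax's theorem
-/

set_option autoImplicit false

namespace Groth.Agent.AxDiv

/-- The base `p` digits of `e`, re-weighted with cyclically shifted powers `p ^ ((k + t) % f)`. -/
def R (p f : ℕ) : ℕ → ℕ → ℕ
  | t, e =>
    if _h : 0 < e ∧ 2 ≤ p then
      (e % p) * p ^ (t % f) + R p f (t + 1) (e / p)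
    else 0
  termination_by _ e => e
  decreasing_by exact Nat.div_lt_self _h.1 _h.2

variable {p f : ℕ}

lemma R_zero (t : ℕ) : R p f t 0 = 0 := by
  rw [R]; simp

lemma R_step (hp : 2 ≤ p) (t e : ℕ) :
    R p f t e = (e % p) * p ^ (t % f) + R p f (t + 1) (e / p) := by
  rcases Nat.eq_zero_or_pos e with h | h
  · subst h; simp [R_zero]
  · conv_lhs => rw [R]
    simp [h, hp]

lemma R_add_period (hp : 2 ≤ p) (t e : ℕ) : R p f (t + f) e = R p f t e := by
  induction e using Nat.strong_induction_on generalizing t with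
  | _ e ih =>
    rcases Nat.eq_zero_or_pos e with h | h
    · subst h; simp [R_zero]
    · rw [R_step hp (t + f) e, R_step hp t e, Nat.add_mod_right,
        show t + f + 1 = t + 1 + f by omega, ih _ (Nat.div_lt_self h hp)]

lemma R_pos (hp : 2 ≤ p) (t e : ℕ) (he : 0 < e) : 0 < R p f t e := by
  induction e using Nat.strong_induction_on generalizing t with
  | _ e ih =>
    rw [R_step hp]
    rcases Nat.eq_zero_or_pos (e % p) with h | h
    · have hdiv : 0 < e / p := Nat.div_pos (Nat.le_of_dvd he (Nat.dvd_of_mod_eq_zero h)) (by omega)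
      have := ih (e / p) (Nat.div_lt_self he hp) (t + 1) hdiv
      omega
    · have : 0 < e % p * p ^ (t % f) := by positivity
      omega

lemma R_modEq (hp : 2 ≤ p) (t e : ℕ) : R p f t e ≡ p ^ t * e [MOD p ^ f - 1] := by
  have hone : p ^ f ≡ 1 [MOD p ^ f - 1] :=
    ((Nat.modEq_iff_dvd' (Nat.one_le_pow _ _ (by omega))).mpr dvd_rfl).symm
  induction e using Nat.strong_induction_on generalizing t with
  | _ e ih =>
    rcases Nat.eq_zero_or_pos e with h | h
    · subst h; simp [R_zero, Nat.ModEq]
    · rw [R_step hp]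
      have hpow : p ^ (t % f) ≡ p ^ t [MOD p ^ f - 1] := by
        conv_rhs => rw [← Nat.mod_add_div t f, pow_add, pow_mul]
        simpa using ((hone.pow (t / f)).mul_left (p ^ (t % f))).symm
      refine ((hpow.mul_left _).add (ih _ (Nat.div_lt_self h hp) (t + 1))).trans ?_
      have : e % p * p ^ t + p ^ (t + 1) * (e / p) = p ^ t * e := by
        rw [pow_succ]
        conv_rhs => rw [← Nat.mod_add_div e p]
        ring
      rw [this]

lemma sum_range_shift (g : ℕ → ℕ) (h : g f = g 0) :
    ∑ t ∈ Finset.range f, g (t + 1) = ∑ t ∈ Finset.range f, g t := by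
  have h1 := Finset.sum_range_succ' g f
  have h2 := Finset.sum_range_succ g f
  omega

lemma sum_mod_pow : ∑ t ∈ Finset.range f, p ^ (t % f) = ∑ t ∈ Finset.range f, p ^ t :=
  Finset.sum_congr rfl fun t ht => by rw [Nat.mod_eq_of_lt (Finset.mem_range.mp ht)]

lemma sum_R (hp : 2 ≤ p) (e : ℕ) :
    ∑ t ∈ Finset.range f, R p f t e =
      (p.digits e).sum * ∑ t ∈ Finset.range f, p ^ t := by
  induction e using Nat.strong_induction_on with
  | _ e ih =>
    rcases Nat.eq_zero_or_pos e with h | h
    · subst h; simp [R_zero]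
    · rw [Nat.digits_def' hp h, List.sum_cons, add_mul, ← ih _ (Nat.div_lt_self h hp)]
      rw [Finset.sum_congr rfl fun t _ => R_step (f := f) hp t e, Finset.sum_add_distrib,
        ← Finset.mul_sum, sum_mod_pow]
      rw [sum_range_shift (fun t => R p f t (e / p))]
      simpa using R_add_period (f := f) hp 0 (e / p)

lemma digits_sum_pow_sub_one (hp : 2 ≤ p) (f : ℕ) :
    (p.digits (p ^ f - 1)).sum = f * (p - 1) := by
  induction f with
  | zero => simp
  | succ n ih =>
    have h1 : 1 ≤ p ^ n := Nat.one_le_pow _ _ (by omega)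
    have hx : p ^ (n + 1) - 1 = (p - 1) + p * (p ^ n - 1) := by
      obtain ⟨a, ha⟩ : ∃ a, p ^ n = a + 1 := ⟨p ^ n - 1, by omega⟩
      rw [pow_succ', ha, Nat.add_sub_cancel, mul_add, mul_one]
      omega
    rw [hx, Nat.digits_add p hp (p - 1) (p ^ n - 1) (by omega) (Or.inl (by omega)),
      List.sum_cons, ih, add_mul, one_mul, add_comm]

lemma digits_sum_mul_pow (hp : 2 ≤ p) (M : ℕ) :
    (p.digits ((p ^ f - 1) * p ^ M)).sum = f * (p - 1) := by
  rw [← digits_sum_pow_sub_one hp f, mul_comm]
  rcases Nat.eq_zero_or_pos (p ^ f - 1) with h | h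
  · simp [h]
  · rw [Nat.digits_base_pow_mul (by omega) h, List.sum_append]
    simp

lemma legendre [hp : Fact p.Prime] (n : ℕ) :
    (p - 1) * padicValNat p n.factorial + (p.digits n).sum = n := by
  rw [sub_one_mul_padicValNat_factorial]
  have := Nat.digit_sum_le p n
  omega

lemma legendre_prod [hp : Fact p.Prime] {α : Type*} (s : Finset α) (e : α → ℕ) :
    (p - 1) * padicValNat p (∏ i ∈ s, (e i).factorial) + ∑ i ∈ s, (p.digits (e i)).sum =
      ∑ i ∈ s, e i := by
  classical
  induction s using Finset.induction with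
  | empty => simp
  | insert a t ha ih =>
    rw [Finset.prod_insert ha, Finset.sum_insert ha, Finset.sum_insert ha,
      padicValNat.mul (Nat.factorial_ne_zero _)
        (Finset.prod_ne_zero_iff.mpr fun i _ => Nat.factorial_ne_zero _), mul_add]
    have := legendre (p := p) (e a)
    omega

lemma legendre_multinomial [hp : Fact p.Prime] {α : Type*} (s : Finset α) (e : α → ℕ) :
    (p - 1) * padicValNat p (Nat.multinomial s e) + (p.digits (∑ i ∈ s, e i)).sum =
      ∑ i ∈ s, (p.digits (e i)).sum := by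
  have h1 := legendre (p := p) (∑ i ∈ s, e i)
  have h2 := legendre_prod (p := p) s e
  rw [← Nat.multinomial_spec s e,
    padicValNat.mul (Finset.prod_ne_zero_iff.mpr fun i _ => Nat.factorial_ne_zero _)
      (Nat.multinomial_pos s e).ne', mul_add] at h1
  omega

lemma modEq_sum {α : Type*} {n : ℕ} {s : Finset α} {a b : α → ℕ}
    (h : ∀ i ∈ s, a i ≡ b i [MOD n]) : ∑ i ∈ s, a i ≡ ∑ i ∈ s, b i [MOD n] := by
  classical
  induction s using Finset.induction with
  | empty => simp [Nat.ModEq]
  | insert x t hx ih =>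
    rw [Finset.sum_insert hx, Finset.sum_insert hx]
    exact (h x (Finset.mem_insert_self _ _)).add
      (ih fun i hi => h i (Finset.mem_insert_of_mem hi))

/-- The combinatorial heart of Ax's theorem. -/
theorem le_padicValNat_multinomial_add [hp : Fact p.Prime] (hf : 0 < f) {α β : Type*}
    [Fintype β] (s : Finset α) (e : α → ℕ) (a : α → β → ℕ) {d j : ℕ}
    (hd : 0 < d) (ha : ∀ i ∈ s, ∑ l, a i l = d) (hj : j * d < Fintype.card β) (M : ℕ)
    (he : ∑ i ∈ s, e i = (p ^ f - 1) * p ^ M)
    (hA : ∀ l, p ^ f - 1 ∣ ∑ i ∈ s, a i l * e i) :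
    f * j ≤ padicValNat p (Nat.multinomial s e) +
      f * (Finset.univ.filter fun l => ∑ i ∈ s, a i l * e i = 0).card := by
  classical
  have hp2 : 2 ≤ p := hp.out.two_le
  set Q := p ^ f - 1 with hQ
  have hQpos : 0 < Q := by
    have : 1 < p ^ f := Nat.one_lt_pow hf.ne' hp2
    omega
  set Z := (Finset.univ.filter fun l => ∑ i ∈ s, a i l * e i = 0).card with hZ
  set S := ∑ i ∈ s, (p.digits (e i)).sum with hS
  have key : ∀ t, ∃ c, ∑ i ∈ s, R p f t (e i) = Q * c ∧ j + 1 ≤ c + Z := by
    intro t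
    have hmod : Q ∣ ∑ i ∈ s, R p f t (e i) := by
      have h : ∑ i ∈ s, R p f t (e i) ≡ ∑ i ∈ s, p ^ t * e i [MOD Q] :=
        modEq_sum fun i _ => R_modEq hp2 t (e i)
      rw [← Finset.mul_sum, he] at h
      exact (h.dvd_iff dvd_rfl).mpr (dvd_mul_of_dvd_right (dvd_mul_right _ _) _)
    obtain ⟨c, hc⟩ := hmod
    refine ⟨c, hc, ?_⟩
    have hcol : ∀ l ∈ Finset.univ.filter (fun l => ¬ ∑ i ∈ s, a i l * e i = 0),
        Q ≤ ∑ i ∈ s, a i l * R p f t (e i) := by
      intro l hl
      rw [Finset.mem_filter] at hl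
      refine Nat.le_of_dvd ?_ ?_
      · obtain ⟨i, hi, hne⟩ := Finset.exists_ne_zero_of_sum_ne_zero hl.2
        refine lt_of_lt_of_le ?_
          (Finset.single_le_sum (fun k _ => Nat.zero_le (a k l * R p f t (e k))) hi)
        refine Nat.mul_pos (Nat.pos_of_ne_zero (fun h => hne (by simp [h]))) (R_pos hp2 t _ ?_)
        exact Nat.pos_of_ne_zero (fun h => hne (by simp [h]))
      · have h : ∑ i ∈ s, a i l * R p f t (e i) ≡ ∑ i ∈ s, p ^ t * (a i l * e i) [MOD Q] := by
          refine modEq_sum fun i _ => ?_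
          refine ((R_modEq hp2 t (e i)).mul_left _).trans ?_
          rw [mul_left_comm]
        rw [← Finset.mul_sum] at h
        exact (h.dvd_iff dvd_rfl).mpr (dvd_mul_of_dvd_right (hA l) _)
    have hsum := Finset.sum_le_sum hcol
    rw [Finset.sum_const, smul_eq_mul] at hsum
    have hle : ∑ l ∈ Finset.univ.filter (fun l => ¬ ∑ i ∈ s, a i l * e i = 0),
        ∑ i ∈ s, a i l * R p f t (e i) ≤ d * (Q * c) := by
      refine (Finset.sum_le_sum_of_subset (Finset.subset_univ _)).trans (le_of_eq ?_)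
      rw [Finset.sum_comm, ← hc, Finset.mul_sum]
      exact Finset.sum_congr rfl fun i hi => by rw [← Finset.sum_mul, ha i hi]
    have hn1 : (Finset.univ.filter fun l => ¬ ∑ i ∈ s, a i l * e i = 0).card ≤ d * c := by
      refine Nat.le_of_mul_le_mul_right ((hsum.trans hle).trans (le_of_eq ?_)) hQpos
      ring
    have hcard : Z + (Finset.univ.filter fun l => ¬ ∑ i ∈ s, a i l * e i = 0).card =
        Fintype.card β := by
      rw [hZ, Finset.card_filter_add_card_filter_not, Finset.card_univ]
    by_contra hlt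
    push Not at hlt
    have h3 : Z ≤ d * Z := Nat.le_mul_of_pos_left Z hd
    have h4 : d * (c + Z) ≤ d * j := Nat.mul_le_mul_left d (by omega)
    rw [mul_add, mul_comm d j] at h4
    omega
  choose c hc hcZ using key
  have hG : (∑ t ∈ Finset.range f, p ^ t) * (p - 1) = Q := by
    have := geom_sum_mul_add (p - 1) f
    rw [Nat.sub_add_cancel (by omega)] at this
    omega
  have hG0 : 0 < ∑ t ∈ Finset.range f, p ^ t := by
    rcases Nat.eq_zero_or_pos (∑ t ∈ Finset.range f, p ^ t) with h | h
    · rw [h, zero_mul] at hG; omega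
    · exact h
  have h1 : Q * ∑ t ∈ Finset.range f, c t = S * ∑ t ∈ Finset.range f, p ^ t := by
    rw [Finset.mul_sum, Finset.sum_congr rfl fun t _ => (hc t).symm, Finset.sum_comm, hS,
      Finset.sum_mul]
    exact Finset.sum_congr rfl fun i _ => sum_R hp2 (e i)
  have h2 : S = (p - 1) * ∑ t ∈ Finset.range f, c t := by
    refine Nat.eq_of_mul_eq_mul_right hG0 ?_
    rw [← h1, ← hG]; ring
  have h3 := legendre_multinomial (p := p) s e
  rw [← hS, he, digits_sum_mul_pow hp2, h2] at h3
  have h4 : padicValNat p (Nat.multinomial s e) + f = ∑ t ∈ Finset.range f, c t := by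
    refine Nat.eq_of_mul_eq_mul_left (show 0 < p - 1 by omega) ?_
    rw [mul_add, ← h3]; ring
  have h5 : f * (j + 1) ≤ (∑ t ∈ Finset.range f, c t) + f * Z := by
    have := Finset.sum_le_sum (s := Finset.range f) fun t _ => hcZ t
    simpa [Finset.sum_add_distrib] using this
  rw [mul_add, mul_one] at h5
  omega

end Groth.Agent.AxDiv
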